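import Groth.Prelude.Def_QuadGrp
import Mathlib.LinearAlgebra.Matrix.Determinant.Basic
import Mathlib.LinearAlgebra.Matrix.ToLinearEquiv

/-!
The half-discriminant for odd rank: `2 · halfDiscUniv n = discUniv n`, and its vanishing at a point of
a field where all `2 × 2` minors of the polar matrix vanish.
-/

set_option autoImplicit false

universe u

namespace Groth.Agent.QuadCentre

open MvPolynomial

/-- In characteristic two the determinant of a symmetric matrix with zero diagonal and odd size is zero. -/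
theorem det_eq_zero_of_symm_zero_diag {S : Type*} [CommRing S] (h2 : (2 : S) = 0) {n : ℕ} (hn : Odd n)
    (A : Matrix (Fin n) (Fin n) S) (hs : ∀ i j, A i j = A j i) (hd : ∀ i, A i i = 0) :
    A.det = 0 := by
  classical
  have hneg : ∀ x : S, -x = x := fun x => neg_eq_of_add_eq_zero_left (by
    rw [← two_mul, h2, zero_mul])
  have hsign : ∀ (σ : Equiv.Perm (Fin n)) (x : S), Equiv.Perm.sign σ • x = x := by
    intro σ x
    rcases Int.units_eq_one_or (Equiv.Perm.sign σ) with h | h <;> simp [h, hneg]
  rw [Matrix.det_apply]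
  simp only [hsign]
  refine Finset.sum_involution (fun σ _ => σ⁻¹) ?_ ?_ (fun σ _ => Finset.mem_univ _) (fun σ _ => inv_inv σ)
  · intro σ _
    have : ∏ i, A ((σ⁻¹ : Equiv.Perm (Fin n)) i) i = ∏ i, A (σ i) i := by
      rw [← Equiv.prod_comp σ (fun i => A ((σ⁻¹ : Equiv.Perm (Fin n)) i) i)]
      refine Finset.prod_congr rfl fun i _ => ?_
      simp [hs i (σ i)]
    rw [this, ← two_mul, h2, zero_mul]
  · intro σ _ hne hinv
    have hfix : ∀ i, σ i ≠ i := fun i hi => hne (Finset.prod_eq_zero (Finset.mem_univ i) (by rw [hi, hd]))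
    have hsum : ∑ _i : Fin n, (1 : ZMod 2) = 0 := by
      refine Finset.sum_involution (fun i _ => σ i) (fun i _ => by decide) (fun i _ _ => hfix i)
        (fun i _ => Finset.mem_univ _) (fun i _ => ?_)
      show σ (σ i) = i
      nth_rw 1 [← hinv]
      exact Equiv.symm_apply_apply σ i
    obtain ⟨k, rfl⟩ := hn
    simp [Finset.sum_const, show (2 : ZMod 2) = 0 from rfl] at hsum

theorem eval₂_univPolarMat {S : Type*} [CommRing S] (n : ℕ) (f : ℤ →+* S)
    (a : Sym2 (Fin n) → S) (i j : Fin n) :
    eval₂ f a (QuadGrp.univPolarMat n i j) = if i = j then 2 * a (Sym2.mk i j) else a (Sym2.mk i j) := by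
  unfold QuadGrp.univPolarMat
  rw [Matrix.of_apply]
  by_cases h : i = j
  · simp [h, map_ofNat, ← coe_eval₂Hom]
  · simp [h]

/-- The evaluated polar matrix. -/
noncomputable def polarMatAt {S : Type*} [CommRing S] {n : ℕ} (a : Sym2 (Fin n) → S) :
    Matrix (Fin n) (Fin n) S :=
  Matrix.of fun i j => if i = j then 2 * a (Sym2.mk i j) else a (Sym2.mk i j)

theorem eval₂_discUniv {S : Type*} [CommRing S] (n : ℕ) (f : ℤ →+* S) (a : Sym2 (Fin n) → S) :
    eval₂ f a (QuadGrp.discUniv n) = (polarMatAt a).det := by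
  rw [QuadGrp.discUniv, ← coe_eval₂Hom, RingHom.map_det]
  congr 1
  ext i j
  simpa [polarMatAt] using eval₂_univPolarMat n f a i j

theorem polarMatAt_symm {S : Type*} [CommRing S] {n : ℕ} (a : Sym2 (Fin n) → S) (i j : Fin n) :
    polarMatAt a i j = polarMatAt a j i := by
  by_cases h : i = j
  · subst h; rfl
  · simp [polarMatAt, h, Ne.symm h, Sym2.eq_swap]

theorem two_dvd_coeff_discUniv {n : ℕ} (hn : Odd n) (s : Sym2 (Fin n) →₀ ℕ) :
    (2 : ℤ) ∣ coeff s (QuadGrp.discUniv n) := by
  have h2 : (2 : MvPolynomial (Sym2 (Fin n)) (ZMod 2)) = 0 := by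
    rw [← map_ofNat (C : ZMod 2 →+* MvPolynomial (Sym2 (Fin n)) (ZMod 2)) 2,
      show (OfNat.ofNat 2 : ZMod 2) = 0 from rfl, map_zero]
  have hmap : MvPolynomial.map (Int.castRingHom (ZMod 2)) (QuadGrp.discUniv n) = 0 := by
    rw [QuadGrp.discUniv, RingHom.map_det]
    refine det_eq_zero_of_symm_zero_diag h2 hn _ ?_ ?_
    · intro i j
      by_cases h : i = j
      · subst h; rfl
      · simp [QuadGrp.univPolarMat, h, Ne.symm h, Sym2.eq_swap]
    · intro i
      simp [QuadGrp.univPolarMat, map_ofNat, h2]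
  have := congrArg (coeff s) hmap
  rw [coeff_map, coeff_zero] at this
  exact (ZMod.intCast_zmod_eq_zero_iff_dvd _ 2).mp this

theorem two_mul_halfDiscUniv {n : ℕ} (hn : Odd n) :
    2 * QuadGrp.halfDiscUniv n = QuadGrp.discUniv n := by
  ext s
  rw [← map_ofNat (C : ℤ →+* MvPolynomial (Sym2 (Fin n)) ℤ) 2, coeff_C_mul,
    QuadGrp.coeff_halfDiscUniv]
  exact Int.mul_ediv_cancel' (two_dvd_coeff_discUniv hn s)

/-- Restriction to diagonal forms. -/
noncomputable def diagRestr (n : ℕ) : MvPolynomial (Sym2 (Fin n)) ℤ →+* MvPolynomial (Fin n) ℤ :=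
  eval₂Hom C (Sym2.lift ⟨fun i j => if i = j then X i else 0, fun i j => by
    by_cases h : i = j
    · subst h; rfl
    · simp [h, Ne.symm h]⟩)

theorem diagRestr_discUniv (n : ℕ) :
    diagRestr n (QuadGrp.discUniv n) = ∏ i : Fin n, (2 * X i) := by
  have h := eval₂_discUniv n (C : ℤ →+* MvPolynomial (Fin n) ℤ)
    (Sym2.lift ⟨fun i j => if i = j then X i else 0, fun i j => by
      by_cases h : i = j
      · subst h; rfl
      · simp [h, Ne.symm h]⟩)
  change diagRestr n (QuadGrp.discUniv n) = _ at h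
  rw [h]
  refine Eq.trans ?_ Matrix.det_diagonal
  congr 1
  ext i j
  by_cases h : i = j
  · subst h; simp [polarMatAt]
  · simp [polarMatAt, h, Matrix.diagonal_apply_ne _ h]

theorem diagRestr_halfDiscUniv {m : ℕ} :
    diagRestr (2 * m + 1) (QuadGrp.halfDiscUniv (2 * m + 1)) =
      2 ^ (2 * m) * ∏ i : Fin (2 * m + 1), X i := by
  have h2 : (2 : MvPolynomial (Fin (2 * m + 1)) ℤ) ≠ 0 := fun h => by
    simpa [map_ofNat] using congrArg (MvPolynomial.eval (fun _ => (0 : ℤ))) h
  apply mul_left_cancel₀ h2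
  have := congrArg (diagRestr (2 * m + 1)) (two_mul_halfDiscUniv (n := 2 * m + 1) ⟨m, rfl⟩)
  rw [map_mul, map_ofNat, diagRestr_discUniv] at this
  rw [this, Finset.prod_mul_distrib, Finset.prod_const, Finset.card_univ, Fintype.card_fin]
  ring

/-- If all `2 × 2` minors of the polar matrix vanish at a field-valued point, so does the
half-discriminant (odd rank at least three). -/
theorem halfDisc_eq_zero_of_minors {k : Type*} [Field k] {n : ℕ} (hn : Odd n) (h3 : 3 ≤ n)
    (a : Sym2 (Fin n) → k)
    (hmin : ∀ p q i j, polarMatAt a p q * polarMatAt a i j - polarMatAt a i q * polarMatAt a p j = 0) :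
    eval₂ (Int.castRingHom k) a (QuadGrp.halfDiscUniv n) = 0 := by
  by_cases h2 : (2 : k) = 0
  · have hoff : ∀ i j, i ≠ j → a (Sym2.mk i j) = 0 := by
      intro i j hij
      have h := hmin i j j i
      have e1 : polarMatAt a j j = 0 := by simp [polarMatAt, h2]
      rw [e1, zero_mul, sub_zero, polarMatAt_symm a j i] at h
      simpa [polarMatAt, hij] using mul_self_eq_zero.mp h
    obtain ⟨m, rfl⟩ := hn
    have hfac : eval₂Hom (Int.castRingHom k) a =
        (eval₂Hom (Int.castRingHom k) (fun i : Fin (2 * m + 1) => a (Sym2.mk i i))).comp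
          (diagRestr (2 * m + 1)) := by
      refine MvPolynomial.ringHom_ext (fun r => by simp [diagRestr]) (fun s => ?_)
      induction s using Sym2.ind with
      | _ i j =>
        by_cases h : i = j
        · subst h; simp [diagRestr]
        · simp [diagRestr, h, hoff i j h]
    rw [← coe_eval₂Hom, hfac, RingHom.comp_apply, diagRestr_halfDiscUniv, map_mul, map_pow,
      map_ofNat, h2, zero_pow (by omega), zero_mul]
  · have hdet : (polarMatAt a).det = 0 := by
      by_cases hz : ∀ p q, polarMatAt a p q = 0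
      · exact Matrix.det_eq_zero_of_row_eq_zero ⟨0, by omega⟩ (hz _)
      · push Not at hz
        obtain ⟨p, q, hpq⟩ := hz
        obtain ⟨i, hi⟩ : ∃ i : Fin n, i ≠ p := by
          have : Nontrivial (Fin n) := Fin.nontrivial_iff_two_le.mpr (by omega)
          exact exists_ne p
        refine Matrix.exists_vecMul_eq_zero_iff.mp
          ⟨Pi.single i (polarMatAt a p q) - Pi.single p (polarMatAt a i q), ?_, ?_⟩
        · intro h0
          have := congrFun h0 i
          simp [hi] at this
          exact hpq this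
        · ext j
          have := hmin p q i j
          simp only [Matrix.sub_vecMul, Matrix.single_vecMul, Pi.sub_apply, Pi.smul_apply,
            Pi.zero_apply, Matrix.row_apply, smul_eq_mul]
          exact this
    have := congrArg (eval₂ (Int.castRingHom k) a) (two_mul_halfDiscUniv hn)
    rw [eval₂_discUniv, hdet, eval₂_mul, ← coe_eval₂Hom, map_ofNat] at this
    exact (mul_eq_zero.mp this).resolve_left h2

end Groth.Agent.QuadCentre
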