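import Groth.Agent.QuadCentre.HalfDisc
import Mathlib.RingTheory.Ideal.Quotient.Basic
import Mathlib.LinearAlgebra.StdBasis

/-!
An endomorphism commuting with all the infinitesimal rotations `v ↦ B(a,v) b - B(b,v) a` of a
non-degenerate quadratic form is a scalar.
-/

set_option autoImplicit false

universe u

namespace Groth.Agent.QuadCentre

variable {R : Type u} [CommRing R] {n : ℕ}

local notation "e" => fun i => (Pi.single i (1 : R) : Fin n → R)

/-- The infinitesimal rotation. -/
noncomputable def rot {M : Type*} [AddCommGroup M] [Module R M] (Q : QuadraticForm R M) (a b : M) :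
    M →ₗ[R] M :=
  (Q.polarBilin a).smulRight b - (Q.polarBilin b).smulRight a

theorem rot_apply {M : Type*} [AddCommGroup M] [Module R M] (Q : QuadraticForm R M) (a b v : M) :
    rot Q a b v = QuadraticMap.polar Q a v • b - QuadraticMap.polar Q b v • a := by
  simp [rot]

/-- Over a maximal ideal some `2 × 2` minor of the polar matrix is a unit. -/
def MinorCond (Q : QuadraticForm R (Fin n → R)) : Prop :=
  ∀ m : Ideal R, m.IsMaximal → ∃ p q k j,
    QuadraticMap.polar Q (e p) (e q) * QuadraticMap.polar Q (e k) (e j) -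
      QuadraticMap.polar Q (e k) (e q) * QuadraticMap.polar Q (e p) (e j) ∉ m

theorem minorCond_of_isRegular (h2 : 2 ≤ n) (Q : QuadraticForm R (Fin n → R))
    (hQ : QuadGrp.IsRegular Q) : MinorCond Q := by
  intro m hm
  by_contra hcon
  push Not at hcon
  let i0 : Fin n := ⟨0, by omega⟩
  let i1 : Fin n := ⟨1, by omega⟩
  have h01 : i0 ≠ i1 := by simp [i0, i1, Fin.ext_iff]
  obtain ⟨x, hx⟩ := hQ.2 (LinearMap.proj i0)
  obtain ⟨y, hy⟩ := hQ.2 (LinearMap.proj i1)
  have hexp : ∀ (z : Fin n → R) (j : Fin n), Q.polarBilin z (e j) =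
      ∑ k, z k * QuadraticMap.polar Q (e k) (e j) := by
    intro z j
    conv_lhs => rw [pi_eq_sum_univ' z]
    simp [LinearMap.sum_apply]
  have hx0 : Q.polarBilin x (e i0) = 1 := by rw [hx]; simp
  have hx1 : Q.polarBilin x (e i1) = 0 := by rw [hx]; simp [h01]
  have hy1 : Q.polarBilin y (e i1) = 1 := by rw [hy]; simp
  have hmem : Q.polarBilin x (e i0) * Q.polarBilin y (e i1) -
      Q.polarBilin x (e i1) * Q.polarBilin y (e i0) ∈ m := by
    have : Q.polarBilin x (e i0) * Q.polarBilin y (e i1) -
      Q.polarBilin x (e i1) * Q.polarBilin y (e i0) = ∑ k, ∑ l, x k * y l *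
        (QuadraticMap.polar Q (e k) (e i0) * QuadraticMap.polar Q (e l) (e i1) -
          QuadraticMap.polar Q (e l) (e i0) * QuadraticMap.polar Q (e k) (e i1)) := by
      simp only [hexp, Finset.sum_mul_sum, ← Finset.sum_sub_distrib]
      exact Finset.sum_congr rfl fun k _ => Finset.sum_congr rfl fun l _ => by ring
    rw [this]
    exact m.sum_mem fun k _ => m.sum_mem fun l _ => Ideal.mul_mem_left _ _ (hcon _ _ _ _)
  rw [hx0, hy1, hx1, zero_mul, sub_zero, one_mul] at hmem
  exact hm.ne_top ((Ideal.eq_top_iff_one _).mpr hmem)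

theorem polarMatAt_coeffs (Q : QuadraticForm R (Fin n → R)) (i j : Fin n) :
    polarMatAt (QuadGrp.coeffs (Pi.basisFun R (Fin n)) (LinearEquiv.refl R R) Q) i j =
      QuadraticMap.polar Q (e i) (e j) := by
  by_cases h : i = j
  · subst h
    simp [polarMatAt, QuadGrp.coeffs_mk]
  · simp [polarMatAt, QuadGrp.coeffs_mk, h]

theorem minorCond_of_semiregular (h3 : 3 ≤ n) (hn : Odd n) (Q : QuadraticForm R (Fin n → R))
    (hQ : QuadGrp.IsSemiregular (Pi.basisFun R (Fin n)) (LinearEquiv.refl R R) Q) : MinorCond Q := by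
  intro m hm
  by_contra hcon
  push Not at hcon
  let _ := Ideal.Quotient.field m
  let φ := Ideal.Quotient.mk m
  let a := QuadGrp.coeffs (Pi.basisFun R (Fin n)) (LinearEquiv.refl R R) Q
  have hφ : ∀ i j, polarMatAt (fun s => φ (a s)) i j = φ (polarMatAt a i j) := by
    intro i j
    by_cases h : i = j
    · simp [polarMatAt, h, map_ofNat]
    · simp [polarMatAt, h]
  have h0 : MvPolynomial.eval₂ (Int.castRingHom (R ⧸ m)) (fun s => φ (a s))
      (QuadGrp.halfDiscUniv n) = 0 := by
    refine halfDisc_eq_zero_of_minors hn h3 _ fun p q i j => ?_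
    rw [hφ, hφ, hφ, hφ, ← map_mul, ← map_mul, ← map_sub]
    simp only [a, polarMatAt_coeffs]
    exact Ideal.Quotient.eq_zero_iff_mem.mpr (hcon _ _ _ _)
  have hu : IsUnit (φ (QuadGrp.halfDisc (Pi.basisFun R (Fin n)) (LinearEquiv.refl R R) Q)) := hQ.map φ
  rw [QuadGrp.halfDisc, MvPolynomial.eval₂_comp_left,
    show φ.comp (Int.castRingHom R) = Int.castRingHom (R ⧸ m) from RingHom.ext_int _ _] at hu
  exact hu.ne_zero h0

theorem minorCond_of_isNondeg (h3 : 3 ≤ n) (Q : QuadraticForm R (Fin n → R))
    (hQ : QuadGrp.IsNondeg (Pi.basisFun R (Fin n)) (LinearEquiv.refl R R) Q) : MinorCond Q := by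
  rcases Nat.even_or_odd n with h | h
  · exact minorCond_of_isRegular (by omega) Q (hQ.1 h)
  · exact minorCond_of_semiregular h3 h Q (hQ.2 h)

/-- The entries of the polar matrix have zero annihilator. -/
theorem eq_zero_of_mul_polar {Q : QuadraticForm R (Fin n → R)} (hQ : MinorCond Q) (r : R)
    (hr : ∀ u v, r * QuadraticMap.polar Q u v = 0) : r = 0 := by
  by_contra hne
  obtain ⟨m, hm, hle⟩ := Ideal.exists_le_maximal (LinearMap.ker (LinearMap.toSpanSingleton R R r))
    (fun h => hne (by simpa using (Ideal.eq_top_iff_one _).mp h))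
  obtain ⟨p, q, k, j, h⟩ := hQ m hm
  have hin : ∀ u v, QuadraticMap.polar Q u v ∈ m := fun u v => hle (by
    simp [mul_comm _ r, hr u v])
  exact h (m.sub_mem (m.mul_mem_right _ (hin _ _)) (m.mul_mem_right _ (hin _ _)))

theorem exists_ne_ne (h3 : 3 ≤ n) (p k : Fin n) : ∃ k', k' ≠ p ∧ k' ≠ k := by
  by_contra h
  push Not at h
  have : (Finset.univ : Finset (Fin n)) ⊆ {p, k} := fun x _ => by
    by_cases hx : x = p
    · simp [hx]
    · simp [h x hx]
  have := (Finset.card_le_card this).trans Finset.card_le_two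
  simp at this
  omega

/-- The commutation identity pins an endomorphism down to a scalar locally. -/
theorem local_scalar (h3 : 3 ≤ n) {Q : QuadraticForm R (Fin n → R)}
    (g : (Fin n → R) →ₗ[R] (Fin n → R))
    (hg : ∀ a b v, rot Q a b (g v) = g (rot Q a b v)) (p q k j : Fin n) :
    ∃ d : R, ∀ v, ((QuadraticMap.polar Q (e p) (e q) * QuadraticMap.polar Q (e k) (e j) -
        QuadraticMap.polar Q (e k) (e q) * QuadraticMap.polar Q (e p) (e j)) ^ 2 *
          QuadraticMap.polar Q (e p) (e q) ^ 10) • g v = d • v := by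
  let B : (Fin n → R) → (Fin n → R) → R := fun u w => QuadraticMap.polar Q u w
  let a : Fin n → R := e p
  let v0 : Fin n → R := e q
  let s := B a v0
  let T : (Fin n → R) →ₗ[R] (Fin n → R) := s • g - B a (g v0) • LinearMap.id
  have hT : ∀ u w v, rot Q u w (T v) = T (rot Q u w v) := by
    intro u w v; simp [T, map_sub, map_smul, hg]
  have hid : ∀ u w v, B u (T v) • w - B w (T v) • u = B u v • T w - B w v • T u := by
    intro u w v
    have := hT u w v
    rw [rot_apply, rot_apply, map_sub, map_smul, map_smul] at this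
    exact this
  have hav : B a (T v0) = 0 := by
    simp [T, B, s, QuadraticMap.polar_sub_right, QuadraticMap.polar_smul_right, mul_comm]
  let lam : (Fin n → R) → R := fun b => B b v0
  let th : (Fin n → R) → R := fun b => B b (T v0)
  have hTb : ∀ b, s • T b = lam b • T a - th b • a := by
    intro b
    have h1 := hid a b v0
    rw [hav, zero_smul, zero_sub] at h1
    have h2 : s • T b = lam b • T a + -(th b • a) := by
      rw [h1]; simp only [s, lam]; abel
    rw [h2, sub_eq_add_neg]
  let bv : Fin n → (Fin n → R) := fun k => s • e k - B (e k) v0 • a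
  have hlam : ∀ k, lam (bv k) = 0 := by
    intro k
    simp [lam, bv, B, s, a, QuadraticMap.polar_sub_left, QuadraticMap.polar_smul_left, mul_comm]
  have hcoord : ∀ k l, l ≠ p → bv k l = if l = k then s else 0 := by
    intro k l hl
    simp [bv, a, hl, Pi.single_apply]
  have hth : ∀ b, s ^ 3 * th b = 0 := by
    have hbase : ∀ k, s ^ 3 * th (e k) = 0 := by
      intro k
      by_cases hkp : k = p
      · subst hkp
        rw [show th (e k) = 0 from hav, mul_zero]
      · obtain ⟨k', hk'p, hk'k⟩ := exists_ne_ne h3 p k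
        have h1 := congrFun (hid (bv k) (bv k') v0) k'
        rw [show B (bv k) v0 = 0 from hlam k, show B (bv k') v0 = 0 from hlam k'] at h1
        simp [hcoord, hk'p, hk'k] at h1
        have h2 : B (bv k) (T v0) = s * th (e k) := by
          have : B a (T v0) = 0 := hav
          simp only [B] at this
          simp [bv, B, th, QuadraticMap.polar_sub_left, QuadraticMap.polar_smul_left, this]
        rw [h2] at h1
        linear_combination s * h1
    intro b
    have : th b = ∑ k, b k * th (e k) := by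
      simp only [th, B, ← QuadraticMap.polarBilin_apply_apply]
      conv_lhs => rw [pi_eq_sum_univ' b]
      simp [LinearMap.sum_apply]
    rw [this, Finset.mul_sum]
    exact Finset.sum_eq_zero fun k _ => by linear_combination b k * hbase k
  let tau := s ^ 3 • T a
  have hT4 : ∀ b, s ^ 4 • T b = lam b • tau := by
    intro b
    rw [pow_succ, mul_smul, hTb, smul_sub, smul_smul, smul_smul, hth, zero_smul, sub_zero,
      mul_comm, ← smul_smul]
  have hB4 : ∀ u v, s ^ 4 * B u (T v) = lam v * B u tau := fun u v => by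
    have := congrArg (B u) (hT4 v)
    simpa [B, QuadraticMap.polar_smul_right] using this
  have hid4 : ∀ u w v, lam v • (B u tau • w - B w tau • u) =
      (B u v * lam w - B w v * lam u) • tau := by
    intro u w v
    have h1 := congrArg (fun x => s ^ 4 • x) (hid u w v)
    simp only [smul_sub, smul_smul] at h1
    rw [hB4, hB4, mul_comm (s ^ 4) (B u v), mul_comm (s ^ 4) (B w v), mul_smul (B u v),
      mul_smul (B w v), hT4, hT4, smul_smul (B u v), smul_smul (B w v), ← sub_smul] at h1
    rw [smul_sub, smul_smul, smul_smul, h1]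
  -- `B (bv i) tau` is killed by `s²`
  have hmu : ∀ i, i ≠ p → s ^ 2 * B (bv i) tau = 0 := by
    intro i hip
    obtain ⟨i', hi'p, hi'i⟩ := exists_ne_ne h3 p i
    have h1 := congrFun (hid4 (bv i) (bv i') a) i'
    simp [hlam, hcoord, hi'p, hi'i, show lam a = s from rfl] at h1
    linear_combination h1
  -- coordinates of the identity at `a`, `bv i`
  have hmain : ∀ i, i ≠ p → ∀ v l, s ^ 2 * (lam v * B a tau * bv i l) =
      - (s ^ 3 * B (bv i) v * tau l) := by
    intro i hip v l
    have h1 := congrFun (hid4 a (bv i) v) l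
    simp [hlam, show lam a = s from rfl] at h1
    linear_combination s ^ 2 * h1 + lam v * a l * hmu i hip
  let t := B (bv k) (e j)
  have hkey : (t ^ 2 * s ^ 5) • tau = 0 := by
    by_cases hkp : k = p
    · have : t = 0 := by
        simp [t, bv, hkp, B, s, a, QuadraticMap.polar_sub_left, QuadraticMap.polar_smul_left,
          v0]
      simp [this]
    obtain ⟨k', hk'p, hk'k⟩ := exists_ne_ne h3 p k
    have h1 := hmain k hkp (e j) k'
    simp only [hcoord k k' hk'p, if_neg hk'k, mul_zero] at h1
    have h2 := hmain k' hk'p a k'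
    simp only [hcoord k' k' hk'p, if_true, show lam a = s from rfl] at h2
    -- `B a tau` is killed by `t s⁴`
    have hba : t * s ^ 4 * B a tau = 0 := by
      linear_combination t * h2 - B (bv k') a * h1
    funext l
    have h3' := hmain k hkp (e j) l
    simp only [Pi.smul_apply, smul_eq_mul, Pi.zero_apply]
    linear_combination -(lam (e j) * bv k l) * hba + t * s ^ 2 * h3'
  have hfinal : ∀ v, (t ^ 2 * s ^ 9) • T v = 0 := by
    intro v
    rw [show t ^ 2 * s ^ 9 = (t ^ 2 * s ^ 5) * s ^ 4 by ring, mul_smul, hT4, smul_comm, hkey,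
      smul_zero]
  refine ⟨t ^ 2 * s ^ 9 * B a (g v0), fun v => ?_⟩
  have h1 := hfinal v
  simp only [T, LinearMap.sub_apply, LinearMap.smul_apply, LinearMap.id_apply, smul_sub,
    smul_smul, sub_eq_zero] at h1
  rw [← h1]
  congr 1
  simp only [t, bv, B, s, a, v0, QuadraticMap.polar_sub_left, QuadraticMap.polar_smul_left,
    smul_eq_mul]
  ring

/-- An endomorphism commuting with all rotations of a non-degenerate form is a scalar. -/
theorem exists_eq_smul (h3 : 3 ≤ n) {Q : QuadraticForm R (Fin n → R)} (hQ : MinorCond Q)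
    (g : (Fin n → R) →ₗ[R] (Fin n → R))
    (hg : ∀ a b v, rot Q a b (g v) = g (rot Q a b v)) : ∃ d : R, ∀ v, g v = d • v := by
  let I : Ideal R :=
    { carrier := {r | ∃ d : R, ∀ v, r • g v = d • v}
      add_mem' := fun {r r'} ⟨d, hd⟩ ⟨d', hd'⟩ => ⟨d + d', fun v => by rw [add_smul, add_smul, hd, hd']⟩
      zero_mem' := ⟨0, fun v => by simp⟩
      smul_mem' := fun c r ⟨d, hd⟩ => ⟨c * d, fun v => by rw [smul_eq_mul, mul_smul, mul_smul, hd]⟩ }
  have htop : I = ⊤ := by
    by_contra hne
    obtain ⟨m, hm, hle⟩ := Ideal.exists_le_maximal I hne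
    obtain ⟨p, q, k, j, hminor⟩ := hQ m hm
    have hP := hm.isPrime
    by_cases hs : QuadraticMap.polar Q (e p) (e q) ∈ m
    · have hs' : QuadraticMap.polar Q (e k) (e q) ∉ m := fun h =>
        hminor (m.sub_mem (m.mul_mem_right _ hs) (m.mul_mem_right _ h))
      refine hP.mul_notMem (fun h => ?_) (fun h => hs' (hP.mem_of_pow_mem _ h))
        (hle (local_scalar h3 g hg k q p j))
      have h' : _ ∈ m := neg_mem (hP.mem_of_pow_mem _ h)
      rw [neg_sub] at h'
      exact hminor h'
    · exact hP.mul_notMem (fun h => hminor (hP.mem_of_pow_mem _ h))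
        (fun h => hs (hP.mem_of_pow_mem _ h)) (hle (local_scalar h3 g hg p q k j))
  obtain ⟨d, hd⟩ : (1 : R) ∈ I := htop ▸ Submodule.mem_top
  exact ⟨d, fun v => by rw [← hd v, one_smul]⟩

end Groth.Agent.QuadCentre
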