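import Groth.Agent.QuadCentre.Core
import Mathlib.RingTheory.DualNumber
import Mathlib.LinearAlgebra.Transvection.Basic
import Mathlib.LinearAlgebra.CliffordAlgebra.Even
import Mathlib.LinearAlgebra.Dimension.Constructions

/-!
The infinitesimal rotations as isometries over a ring with a square-zero element: they have
determinant one and satisfy the Dickson condition.
-/

set_option autoImplicit false

universe u

open scoped TensorProduct

namespace Groth.Agent.QuadCentre

open CliffordAlgebra

section Infinitesimal

variable {A : Type*} [CommRing A] {V : Type*} [AddCommGroup V] [Module A V]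
  (q : QuadraticForm A V) {eps : A} (a b : V)

/-- `1 + ε X_{a,b}`. -/
noncomputable def infRot (heps : eps * eps = 0) : V ≃ₗ[A] V :=
  { LinearMap.id + eps • rot q a b with
    invFun := fun v => v - eps • rot q a b v
    left_inv := fun v => by
      simp [smul_sub, smul_smul, heps]
    right_inv := fun v => by
      simp
      rw [smul_sub, smul_smul, heps, zero_smul, sub_zero, sub_add_cancel] }

variable (heps : eps * eps = 0)

theorem infRot_apply (v : V) : infRot q a b heps v = v + eps • rot q a b v := rfl

theorem infRot_mem_O : infRot q a b heps ∈ QuadGrp.O q := by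
  intro v
  rw [infRot_apply, QuadraticMap.map_add (⇑q), QuadraticMap.map_smul, heps, zero_smul, add_zero,
    QuadraticMap.polar_smul_right, rot_apply, QuadraticMap.polar_sub_right,
    QuadraticMap.polar_smul_right, QuadraticMap.polar_smul_right]
  rw [QuadraticMap.polar_comm q v b, QuadraticMap.polar_comm q v a]
  simp [mul_comm]

theorem det_infRot [Module.Free A V] [Module.Finite A V] :
    LinearEquiv.det (infRot q a b heps) = 1 := by
  have : (infRot q a b heps : V →ₗ[A] V) =
      LinearMap.transvection (eps • q.polarBilin a) b ∘ₗ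
        LinearMap.transvection (-(eps • q.polarBilin b)) a := by
    ext v
    simp only [LinearEquiv.coe_coe, infRot_apply, LinearMap.comp_apply,
      LinearMap.transvection.apply, LinearMap.smul_apply, LinearMap.neg_apply, map_add, map_smul,
      smul_eq_mul, QuadraticMap.polarBilin_apply_apply, rot_apply, smul_sub, smul_smul, add_smul,
      neg_smul, mul_add, mul_neg, map_neg, neg_mul]
    have : eps * QuadraticMap.polar q b v * (eps * QuadraticMap.polar q a a) = 0 := by
      linear_combination QuadraticMap.polar q b v * QuadraticMap.polar q a a * heps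
    rw [smul_add, smul_smul, this]
    simp
    abel
  apply Units.ext
  rw [LinearEquiv.coe_det, this, LinearMap.det_comp, LinearMap.transvection.det,
    LinearMap.transvection.det]
  simp only [LinearMap.smul_apply, LinearMap.neg_apply, smul_eq_mul,
    QuadraticMap.polarBilin_apply_apply, Units.val_one]
  rw [QuadraticMap.polar_comm q b a]
  linear_combination -(QuadraticMap.polar q a b * QuadraticMap.polar q a b) * heps

theorem infRot_dickson : QuadGrp.IsDicksonTrivial q (infRot q a b heps) (infRot_mem_O q a b heps) := by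
  intro z hz
  let w := ι q b * ι q a
  have hu : (1 + eps • w) * (1 - eps • w) = 1 := by
    simp [mul_sub, add_mul, smul_mul_assoc, mul_smul_comm, smul_sub, smul_add, smul_smul, heps]
  have hu' : (1 - eps • w) * (1 + eps • w) = 1 := by
    simp [sub_mul, mul_add, smul_mul_assoc, mul_smul_comm, smul_sub, smul_add, smul_smul, heps]
  let u : (CliffordAlgebra q)ˣ := ⟨1 + eps • w, 1 - eps • w, hu, hu'⟩
  let conj : CliffordAlgebra q →ₐ[A] CliffordAlgebra q :=
    AlgHom.ofLinearMap
      ((LinearMap.mulLeft A (u : CliffordAlgebra q)).comp (LinearMap.mulRight A (↑u⁻¹ : CliffordAlgebra q)))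
      (by simp) (fun x y => by
        simp only [LinearMap.comp_apply, LinearMap.mulLeft_apply, LinearMap.mulRight_apply,
          mul_assoc, Units.inv_mul_cancel_left])
  have hconj : CliffordAlgebra.map (QuadGrp.isometryOfMem q _ (infRot_mem_O q a b heps)) = conj := by
    apply CliffordAlgebra.hom_ext
    ext v
    have hav : ι q a * ι q v = algebraMap A _ (QuadraticMap.polar q a v) - ι q v * ι q a :=
      eq_sub_of_add_eq (ι_mul_ι_add_swap a v)
    have hvb : ι q v * ι q b = algebraMap A _ (QuadraticMap.polar q b v) - ι q b * ι q v := by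
      rw [eq_sub_iff_add_eq, add_comm]
      exact ι_mul_ι_add_swap b v
    have hcomm : w * ι q v - ι q v * w = ι q (rot q a b v) := by
      simp only [w]
      rw [mul_assoc, hav, ← mul_assoc (ι q v), hvb, rot_apply, map_sub, map_smul, map_smul,
        Algebra.smul_def, Algebra.smul_def, mul_sub, sub_mul]
      simp only [Algebra.commutes, mul_assoc]
      abel
    simp only [AlgHom.toLinearMap_apply, LinearMap.comp_apply,
      CliffordAlgebra.map_apply_ι, QuadGrp.isometryOfMem_apply, infRot_apply, map_add, map_smul]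
    change _ = (1 + eps • w) * (ι q v * (1 - eps • w))
    rw [← hcomm]
    simp only [mul_sub, mul_one, add_mul, one_mul, smul_mul_assoc, mul_smul_comm, smul_sub]
    rw [smul_add, smul_smul, heps, zero_smul, add_zero]
    abel
  rw [hconj]
  have hue : (u : CliffordAlgebra q) ∈ CliffordAlgebra.even q :=
    (CliffordAlgebra.even q).add_mem (CliffordAlgebra.even q).one_mem
      ((CliffordAlgebra.even q).smul_mem (ι_mul_ι_mem_evenOdd_zero q b a) eps)
  have hcz : (u : CliffordAlgebra q) * (z : CliffordAlgebra q) = z * u :=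
    congrArg Subtype.val (Subalgebra.mem_center_iff.mp hz ⟨_, hue⟩)
  change (u : CliffordAlgebra q) * ((z : CliffordAlgebra q) * ↑u⁻¹) = z
  rw [← mul_assoc, hcz, Units.mul_inv_cancel_right]

end Infinitesimal

variable {R : Type u} [CommRing R] {M : Type u} [AddCommGroup M] [Module R M] [Module.Free R M]

theorem baseChangeForm_tmul (A : Type u) [CommRing A] [Algebra R A] (Q : QuadraticForm R M)
    (a : A) (m : M) : QuadGrp.baseChangeForm A Q (a ⊗ₜ m) = Q m • (a * a) := by
  simp [QuadGrp.baseChangeForm, QuadGrp.baseChange_tmul, Algebra.TensorProduct.rid]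

theorem polar_baseChangeForm (A : Type u) [CommRing A] [Algebra R A] (Q : QuadraticForm R M)
    (x y : M) : QuadraticMap.polar (QuadGrp.baseChangeForm A Q) (1 ⊗ₜ x) (1 ⊗ₜ y) =
      algebraMap R A (QuadraticMap.polar Q x y) := by
  simp only [QuadraticMap.polar, ← TensorProduct.tmul_add, baseChangeForm_tmul, mul_one,
    Algebra.algebraMap_eq_smul_one, sub_smul]

theorem O_baseChangeForm (A : Type u) [CommRing A] [Algebra R A] (Q : QuadraticForm R M) :
    QuadGrp.O (QuadGrp.baseChangeForm A Q) = QuadGrp.orth Q A := by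
  ext g
  simp [QuadGrp.orth, QuadGrp.mem_O, QuadGrp.baseChangeForm]

theorem rot_baseChangeForm (A : Type u) [CommRing A] [Algebra R A] (Q : QuadraticForm R M)
    (a b v : M) : rot (QuadGrp.baseChangeForm A Q) (1 ⊗ₜ a) (1 ⊗ₜ b) (1 ⊗ₜ v) =
      1 ⊗ₜ rot Q a b v := by
  simp [rot_apply, polar_baseChangeForm, TensorProduct.tmul_sub, TensorProduct.tmul_smul,
    ← TensorProduct.smul_tmul', algebraMap_smul]

/-- The test element over the dual numbers. -/
noncomputable def testRot (Q : QuadraticForm R M) (a b : M) :
    (DualNumber R ⊗[R] M) ≃ₗ[DualNumber R] (DualNumber R ⊗[R] M) :=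
  infRot (QuadGrp.baseChangeForm (DualNumber R) Q) (1 ⊗ₜ a) (1 ⊗ₜ b) DualNumber.eps_mul_eps

/-- Commuting with all test rotations gives the commutation identity. -/
theorem rot_comm_of_commute (Q : QuadraticForm R M) (g : M ≃ₗ[R] M)
    (h : ∀ a b : M, g.baseChange R (DualNumber R) M M * testRot Q a b =
      testRot Q a b * g.baseChange R (DualNumber R) M M) (a b v : M) :
    rot Q a b (g v) = g (rot Q a b v) := by
  have h1 := DFunLike.congr_fun (h a b) ((1 : DualNumber R) ⊗ₜ v)
  simp only [LinearEquiv.mul_apply, testRot, infRot_apply, LinearEquiv.baseChange_tmul,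
    rot_baseChangeForm, map_add, map_smul, TensorProduct.smul_tmul', smul_eq_mul, mul_one] at h1
  have h2 := congrArg
    ((TensorProduct.lid R M).toLinearMap ∘ₗ (TrivSqZeroExt.sndHom R R).rTensor M) h1
  simpa using h2.symm

theorem commute_of_eq_smul (A : Type u) [CommRing A] [Algebra R A] (g : M ≃ₗ[R] M) (c : R)
    (hc : ∀ v, g v = c • v) (h : (A ⊗[R] M) ≃ₗ[A] (A ⊗[R] M)) :
    g.baseChange R A M M * h = h * g.baseChange R A M M := by
  have hg : ∀ x : A ⊗[R] M, g.baseChange R A M M x = algebraMap R A c • x := by
    intro x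
    induction x using TensorProduct.induction_on with
    | zero => simp
    | tmul a m => simp [hc, TensorProduct.tmul_smul, algebraMap_smul]
    | add x y hx hy => simp [hx, hy]
  ext x
  simp only [LinearEquiv.mul_apply, hg, map_smul]

theorem scalar_sq_one {n : ℕ} {Q : QuadraticForm R (Fin n → R)} (hQ : MinorCond Q)
    (g : (Fin n → R) ≃ₗ[R] (Fin n → R)) (hg : g ∈ QuadGrp.O Q) (c : R) (hc : ∀ v, g v = c • v) :
    c * c = 1 := by
  refine sub_eq_zero.mp (eq_zero_of_mul_polar hQ _ fun u v => ?_)
  have hp : QuadraticMap.polar Q (g u) (g v) = QuadraticMap.polar Q u v := by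
    simp only [QuadraticMap.polar, ← map_add, (QuadGrp.mem_O Q g).mp hg]
  rw [hc, hc, QuadraticMap.polar_smul_left, QuadraticMap.polar_smul_right, smul_eq_mul,
    smul_eq_mul] at hp
  linear_combination hp

theorem testRot_mem_orth (Q : QuadraticForm R M) (a b : M) :
    testRot Q a b ∈ QuadGrp.orth Q (DualNumber R) :=
  O_baseChangeForm (DualNumber R) Q ▸ infRot_mem_O _ _ _ _

theorem testRot_mem_sorth' [Module.Finite R M] (Q : QuadraticForm R M) (a b : M) :
    testRot Q a b ∈ QuadGrp.sorth' Q (DualNumber R) :=
  ⟨testRot_mem_orth Q a b, det_infRot _ _ _ _⟩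

theorem testRot_mem_sorth [Module.Finite R M] (Q : QuadraticForm R M) (a b : M) :
    testRot Q a b ∈ QuadGrp.sorth Q (DualNumber R) := by
  unfold QuadGrp.sorth QuadGrp.SO
  split_ifs
  · exact ⟨infRot_mem_O _ _ _ _, infRot_dickson _ _ _ _⟩
  · exact ⟨infRot_mem_O _ _ _ _, det_infRot _ _ _ _⟩

theorem mem_O_of_mem_SO (Q : QuadraticForm R M) (g : M ≃ₗ[R] M) (hg : g ∈ QuadGrp.SO Q) :
    g ∈ QuadGrp.O Q := by
  unfold QuadGrp.SO at hg
  split_ifs at hg
  · exact hg.choose
  · exact hg.1

end Groth.Agent.QuadCentre
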